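import Groth.Agent.H27Misc.SymTenFlat

/-!
Invariant tensors of a flat algebra commute with every base change.
-/

universe u

open scoped TensorProduct
open MvPolynomial Groth.Agent.H22Alg.PL Groth.Agent.H27Misc.SymTenFlat

noncomputable section

namespace Groth.Agent.H26Sym.TSBC

variable {A : Type u} [CommRing A] {d : ℕ}

/-- the permutation as a linear map -/
abbrev R (P : Type u) [AddCommGroup P] [Module A P] (σ : Equiv.Perm (Fin d)) :
    (⨂[A] _ : Fin d, P) →ₗ[A] (⨂[A] _ : Fin d, P) :=
  (PiTensorProduct.reindex A (fun _ : Fin d => P) σ).toLinearMap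

theorem free_split {ι : Type u} {P : Type u} [AddCommGroup P] [Module A P]
    (e : Module.Basis ι A P) :
    ∃ (r : (⨂[A] _ : Fin d, P) →ₗ[A] inv A P d)
      (G : Equiv.Perm (Fin d) → ((⨂[A] _ : Fin d, P) →ₗ[A] (⨂[A] _ : Fin d, P))),
      r ∘ₗ (inv A P d).subtype = LinearMap.id ∧
      (inv A P d).subtype ∘ₗ r = LinearMap.id + ∑ σ, G σ ∘ₗ (R P σ - LinearMap.id) := by
  classical
  let b := Basis.piTensorProduct (fun _ : Fin d => e)
  let st : Setoid (Fin d → ι) :=
    { r := fun p q => ∃ σ : Equiv.Perm (Fin d), q = p ∘ σ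
      iseqv := ⟨fun p => ⟨1, rfl⟩, fun {p q} ⟨σ, h⟩ => ⟨σ⁻¹, by subst h; funext x; simp⟩,
        fun {p q r} ⟨σ, h⟩ ⟨τ, h'⟩ => ⟨σ * τ, by subst h h'; rfl⟩⟩ }
  let rep : (Fin d → ι) → (Fin d → ι) := fun p => (Quotient.mk st p).out
  have hrep : ∀ p, ∃ σ : Equiv.Perm (Fin d), rep p = p ∘ σ := fun p => by
    obtain ⟨σ, hσ⟩ := Quotient.exact (s := st) (Quotient.out_eq (Quotient.mk st p)).symm
    exact ⟨σ, hσ⟩
  have hrep_eq : ∀ p (σ : Equiv.Perm (Fin d)), rep (p ∘ σ) = rep p := fun p σ => by
    have : Quotient.mk st p = Quotient.mk st (p ∘ σ) := Quotient.sound ⟨σ, rfl⟩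
    simp only [rep, this]
  choose s hs using hrep
  let EP : (⨂[A] _ : Fin d, P) →ₗ[A] (⨂[A] _ : Fin d, P) :=
    b.constr A fun p => if rep p = p then
      ∑ i ∈ (Finset.univ : Finset (Equiv.Perm (Fin d))).image (fun σ : Equiv.Perm (Fin d) => p ∘ σ), b i else 0
  let G : Equiv.Perm (Fin d) → ((⨂[A] _ : Fin d, P) →ₗ[A] (⨂[A] _ : Fin d, P)) := fun σ =>
    b.constr A fun p => if s p = σ then b p else 0
  have hEP : ∀ x i, b.repr (EP x) i = b.repr x (rep i) := by
    intro x i
    refine LinearMap.congr_fun (f := (Finsupp.lapply i).comp (b.repr.toLinearMap.comp EP))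
      (g := (Finsupp.lapply (rep i)).comp b.repr.toLinearMap) (b.ext fun p => ?_) x
    simp only [LinearMap.comp_apply, LinearEquiv.coe_coe, Finsupp.lapply_apply, EP,
      Module.Basis.constr_basis, Module.Basis.repr_self]
    by_cases hp : rep p = p
    · rw [if_pos hp, map_sum, Finsupp.finsetSum_apply]
      simp only [Module.Basis.repr_self, Finsupp.single_apply]
      rw [Finset.sum_ite_eq']
      refine if_congr ?_ rfl rfl
      simp only [Finset.mem_image, Finset.mem_univ, true_and]
      constructor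
      · rintro ⟨σ, rfl⟩; rw [hrep_eq, hp]
      · intro h; exact ⟨(s i)⁻¹, by rw [h, hs]; funext x; simp⟩
    · rw [if_neg hp, map_zero, Finsupp.zero_apply, Finsupp.single_apply, if_neg]
      intro h
      apply hp
      rw [h, hs i, hrep_eq, hs i]
  have hR : ∀ (σ : Equiv.Perm (Fin d)) x i, b.repr (R P σ x) i = b.repr x (i ∘ σ) := by
    intro σ x i
    refine LinearMap.congr_fun (f := (Finsupp.lapply i).comp (b.repr.toLinearMap.comp (R P σ)))
      (g := (Finsupp.lapply (i ∘ σ)).comp b.repr.toLinearMap) (b.ext fun p => ?_) x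
    have hbp : R P σ (b p) = b (p ∘ σ.symm) := by
      simp only [b, Basis.piTensorProduct_apply, R, LinearEquiv.coe_coe, PiTensorProduct.reindex_tprod]
      rfl
    simp only [LinearMap.comp_apply, LinearEquiv.coe_coe, Finsupp.lapply_apply, hbp,
      Module.Basis.repr_self, Finsupp.single_apply]
    refine if_congr ⟨fun h => ?_, fun h => ?_⟩ rfl rfl
    · subst h; funext x; simp
    · subst h; funext x; simp
  have hG : ∀ σ x i, b.repr (G σ x) i = if s i = σ then b.repr x i else 0 := by
    intro σ x i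
    by_cases hσ : s i = σ
    · rw [if_pos hσ]
      refine LinearMap.congr_fun (f := (Finsupp.lapply i).comp (b.repr.toLinearMap.comp (G σ)))
        (g := (Finsupp.lapply i).comp b.repr.toLinearMap) (b.ext fun p => ?_) x
      simp only [LinearMap.comp_apply, LinearEquiv.coe_coe, Finsupp.lapply_apply, G,
        Module.Basis.constr_basis]
      by_cases hp : s p = σ
      · rw [if_pos hp]
      · rw [if_neg hp, map_zero, Finsupp.zero_apply, Module.Basis.repr_self, Finsupp.single_apply, if_neg]
        rintro rfl; exact hp hσ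
    · rw [if_neg hσ]
      refine LinearMap.congr_fun (f := (Finsupp.lapply i).comp (b.repr.toLinearMap.comp (G σ)))
        (g := 0) (b.ext fun p => ?_) x
      simp only [LinearMap.comp_apply, LinearEquiv.coe_coe, Finsupp.lapply_apply, G,
        Module.Basis.constr_basis, LinearMap.zero_apply]
      by_cases hp : s p = σ
      · rw [if_pos hp, Module.Basis.repr_self, Finsupp.single_apply, if_neg]
        rintro rfl; exact hσ hp
      · rw [if_neg hp, map_zero, Finsupp.zero_apply]
  have hinv : ∀ x, EP x ∈ inv A P d := fun x => (mem_inv _).mpr fun σ => b.ext_elem fun i => by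
    show b.repr (R P σ (EP x)) i = _
    rw [hR, hEP, hEP, hrep_eq]
  refine ⟨EP.codRestrict _ hinv, G, ?_, ?_⟩
  · refine LinearMap.ext fun x => Subtype.ext (b.ext_elem fun i => ?_)
    show b.repr (EP x.1) i = b.repr x.1 i
    rw [hEP, hs, ← hR]
    show b.repr (PiTensorProduct.reindex A (fun _ : Fin d => P) (s i) x.1) i = _
    rw [(mem_inv _).mp x.2 (s i)]
  · refine LinearMap.ext fun x => b.ext_elem fun i => ?_
    show b.repr (EP x) i = _
    simp only [LinearMap.add_apply, LinearMap.id_apply, LinearMap.coe_sum, Finset.sum_apply,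
      LinearMap.comp_apply, LinearMap.sub_apply, map_add, map_sum, Finsupp.add_apply,
      Finsupp.finsetSum_apply, hG, map_sub, Finsupp.sub_apply, hR, hEP]
    simp only [sub_ite, sub_zero]
    rw [Finset.sum_eq_single (s i)]
    · simp [hs]
    · intro σ _ hσ; simp [hσ.symm]
    · simp

variable {B : Type u} [CommRing B] [Algebra A B] (A' : Type u) [AddCommGroup A'] [Module A A']

theorem free_bc {P : Type u} [AddCommGroup P] [Module A P] {ι : Type u} (e : Module.Basis ι A P) :
    Function.Injective ((inv A P d).subtype.lTensor A') ∧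
      ∀ y : A' ⊗[A] (⨂[A] _ : Fin d, P), (∀ σ, (R P σ).lTensor A' y = y) →
        ∃ z, (inv A P d).subtype.lTensor A' z = y := by
  obtain ⟨r, G, h1, h2⟩ := free_split (d := d) e
  refine ⟨Function.LeftInverse.injective (g := r.lTensor A') fun z => ?_, fun y hy => ⟨r.lTensor A' y, ?_⟩⟩
  · rw [← LinearMap.lTensor_comp_apply, h1, LinearMap.lTensor_id, LinearMap.id_apply]
  · rw [← LinearMap.lTensor_comp_apply, h2, LinearMap.lTensor_add, LinearMap.lTensor_id]
    have : ∀ σ, (G σ ∘ₗ (R P σ - LinearMap.id)).lTensor A' y = 0 := fun σ => by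
      rw [LinearMap.lTensor_comp_apply, LinearMap.lTensor_sub, LinearMap.sub_apply, LinearMap.lTensor_id,
        LinearMap.id_apply, hy, sub_self, map_zero]
    have hsum : (∑ σ, G σ ∘ₗ (R P σ - LinearMap.id)).lTensor A' y = 0 := by
      rw [show (∑ σ, G σ ∘ₗ (R P σ - LinearMap.id)).lTensor A' =
        ∑ σ, (G σ ∘ₗ (R P σ - LinearMap.id)).lTensor A' from map_sum (LinearMap.lTensorHom A') _ _,
        LinearMap.sum_apply]
      exact Finset.sum_eq_zero fun σ _ => this σ
    rw [LinearMap.add_apply, LinearMap.id_apply, hsum, add_zero]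

theorem exists_kill_tensor {P : Type u} [AddCommGroup P] [Module A P] [Module.Flat A B] {ι : Type u}
    (e : Module.Basis ι A P) (π : P →ₗ[A] B) (hπ : Function.Surjective π)
    {κ : Type*} [Finite κ] (w : κ → A' ⊗[A] (⨂[A] _ : Fin d, P))
    (hw : ∀ k, (PiTensorProduct.map fun _ : Fin d => π).lTensor A' (w k) = 0) :
    ∃ (σ : Type u) (π' : MvPolynomial σ A →ₐ[A] B) (h : P →ₗ[A] MvPolynomial σ A),
      π'.toLinearMap ∘ₗ h = π ∧
      ∀ k, (PiTensorProduct.map fun _ : Fin d => h).lTensor A' (w k) = 0 := by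
  classical
  haveI := Fintype.ofFinite κ
  set Tπ := PiTensorProduct.map (R := A) fun _ : Fin d => π
  have hsur : Function.Surjective Tπ := by
    intro z
    induction z using PiTensorProduct.induction_on with
    | smul_tprod a f =>
      exact ⟨a • PiTensorProduct.tprod A (fun i => Function.surjInv hπ (f i)), by
        simp [Tπ, Function.surjInv_eq hπ]⟩
    | add x y hx hy => obtain ⟨a, rfl⟩ := hx; obtain ⟨c, rfl⟩ := hy; exact ⟨a + c, map_add _ _ _⟩
  have hex : Function.Exact (LinearMap.ker Tπ).subtype Tπ := fun x => by simp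
  choose v hv using fun k => ((lTensor_exact A' hex hsur) (w k)).mp (hw k)
  choose S hS using fun k => TensorProduct.exists_finset (v k)
  let T : Finset (⨂[A] _ : Fin d, P) :=
    Finset.univ.biUnion fun k => (S k).image fun q => (q.2 : ⨂[A] _ : Fin d, P)
  obtain ⟨σ, π', h, -, hh, hk⟩ := exists_kill e π hπ T (fun t ht => by
    obtain ⟨k, -, hk⟩ := Finset.mem_biUnion.mp ht
    obtain ⟨q, -, rfl⟩ := Finset.mem_image.mp hk
    exact q.2.2)
  refine ⟨σ, π', h, hh, fun k => ?_⟩
  rw [← hv k, hS k]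
  simp only [map_sum, LinearMap.lTensor_tmul]
  refine Finset.sum_eq_zero fun q hq => ?_
  rw [show (PiTensorProduct.map fun _ : Fin d => h) ((LinearMap.ker Tπ).subtype q.2) = 0 from
    hk _ (Finset.mem_biUnion.mpr ⟨k, Finset.mem_univ _, Finset.mem_image_of_mem _ hq⟩), TensorProduct.tmul_zero]

theorem map_R {M N : Type u} [AddCommGroup M] [Module A M] [AddCommGroup N] [Module A N] (h : M →ₗ[A] N)
    (σ : Equiv.Perm (Fin d)) :
    R N σ ∘ₗ (PiTensorProduct.map fun _ : Fin d => h) = (PiTensorProduct.map fun _ : Fin d => h) ∘ₗ R M σ :=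
  LinearMap.ext fun t => map_invariant h σ t

theorem invMap_comm {M N : Type u} [AddCommGroup M] [Module A M] [AddCommGroup N] [Module A N] (h : M →ₗ[A] N) :
    (inv A N d).subtype ∘ₗ invMap d h = (PiTensorProduct.map fun _ : Fin d => h) ∘ₗ (inv A M d).subtype := rfl

/-- Invariant tensors of a flat algebra commute with base change. -/
theorem inv_bc [Module.Flat A B] :
    Function.Injective ((inv A B d).subtype.lTensor A') ∧
      ∀ y : A' ⊗[A] (⨂[A] _ : Fin d, B), (∀ σ, (R B σ).lTensor A' y = y) →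
        ∃ z, (inv A B d).subtype.lTensor A' z = y := by
  classical
  let π : MvPolynomial B A →ₐ[A] B := aeval (id : B → B)
  have hπ : Function.Surjective π := fun b => ⟨X b, aeval_X _ b⟩
  let e := basisMonomials B A
  set Tπ := PiTensorProduct.map (R := A) fun _ : Fin d => π.toLinearMap
  refine ⟨(injective_iff_map_eq_zero _).mpr fun z hz => ?_, fun y hy => ?_⟩
  · have hsur : Function.Surjective (invMap d π.toLinearMap : inv A (MvPolynomial B A) d →ₗ[A] inv A B d) := by
      intro t
      obtain ⟨s, hs, hst⟩ := exists_symmetric_lift A (MvPolynomial B A) B π.toLinearMap hπ d t.1 ((mem_inv _).mp t.2)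
      exact ⟨⟨s, (mem_inv s).mpr hs⟩, Subtype.ext hst⟩
    obtain ⟨z₁, rfl⟩ := LinearMap.lTensor_surjective A' hsur z
    obtain ⟨σ, π', h, hh, hk⟩ := exists_kill_tensor A' e π.toLinearMap hπ
      (fun _ : Unit => (inv A (MvPolynomial B A) d).subtype.lTensor A' z₁) (fun _ => by
        rw [← LinearMap.lTensor_comp_apply, ← invMap_comm, LinearMap.lTensor_comp_apply]
        exact hz)
    have h0 : (invMap d h).lTensor A' z₁ = 0 := (free_bc A' (basisMonomials σ A)).1 (by
      rw [map_zero, ← LinearMap.lTensor_comp_apply, invMap_comm, LinearMap.lTensor_comp_apply]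
      exact hk ())
    have hcomp : (invMap d π'.toLinearMap : inv A (MvPolynomial σ A) d →ₗ[A] inv A B d) ∘ₗ invMap d h =
        invMap d π.toLinearMap := LinearMap.ext fun t => Subtype.ext (by
      show PiTensorProduct.map _ (PiTensorProduct.map _ t.1) = PiTensorProduct.map _ t.1
      rw [← LinearMap.comp_apply, ← PiTensorProduct.map_comp]
      exact congrArg (fun g : MvPolynomial B A →ₗ[A] B => PiTensorProduct.map (fun _ : Fin d => g) t.1) hh)
    rw [← hcomp, LinearMap.lTensor_comp_apply, h0, map_zero]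
  · have hsur : Function.Surjective Tπ := by
      intro z
      obtain ⟨t, ht⟩ := exists_preimage π.toLinearMap hπ z
      exact ⟨t, ht⟩
    obtain ⟨w, rfl⟩ := LinearMap.lTensor_surjective A' hsur y
    obtain ⟨σ, π', h, hh, hk⟩ := exists_kill_tensor A' e π.toLinearMap hπ
      (fun τ : Equiv.Perm (Fin d) => (R (MvPolynomial B A) τ).lTensor A' w - w) (fun τ => by
        rw [map_sub, ← LinearMap.lTensor_comp_apply, ← map_R, LinearMap.lTensor_comp_apply, hy, sub_self])
    obtain ⟨z, hz⟩ := (free_bc A' (basisMonomials σ A)).2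
      ((PiTensorProduct.map fun _ : Fin d => h).lTensor A' w) (fun τ => by
        rw [← LinearMap.lTensor_comp_apply, map_R, LinearMap.lTensor_comp_apply, ← sub_eq_zero, ← map_sub]
        exact hk τ)
    refine ⟨(invMap d π'.toLinearMap).lTensor A' z, ?_⟩
    rw [← LinearMap.lTensor_comp_apply, invMap_comm, LinearMap.lTensor_comp_apply, hz,
      ← LinearMap.lTensor_comp_apply, ← PiTensorProduct.map_comp]
    exact congrArg (fun g : MvPolynomial B A →ₗ[A] B => (PiTensorProduct.map fun _ : Fin d => g).lTensor A' w) hh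

/-- The same, for any presentation of the invariant tensors. -/
theorem bc_of_iso [Module.Flat A B] {Q E : Type u} [AddCommGroup Q] [Module A Q] [AddCommGroup E] [Module A E]
    (j : Q →ₗ[A] E) (θ : (⨂[A] _ : Fin d, B) ≃ₗ[A] E) (s : Equiv.Perm (Fin d) → (E →ₗ[A] E))
    (hs : ∀ σ t, s σ (θ t) = θ (R B σ⁻¹ t)) (hj : Function.Injective j)
    (hr : ∀ x, x ∈ Set.range j ↔ ∀ σ, s σ x = x) :
    Function.Injective (j.lTensor A') ∧
      ∀ y : A' ⊗[A] E, (∀ σ, (s σ).lTensor A' y = y) → ∃ z, j.lTensor A' z = y := by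
  classical
  have hs' : ∀ (σ : Equiv.Perm (Fin d)) (x : E), θ.symm (s σ x) = R B σ⁻¹ (θ.symm x) := fun σ x => by
    rw [LinearEquiv.symm_apply_eq, ← hs, LinearEquiv.apply_symm_apply]
  have hmem : ∀ q, θ.symm (j q) ∈ inv A B d := fun q => (mem_inv _).mpr fun σ => by
    have := hs' σ⁻¹ (j q)
    rw [inv_inv, (hr (j q)).mp ⟨q, rfl⟩] at this
    exact this.symm
  let L : Q →ₗ[A] inv A B d := (θ.symm.toLinearMap ∘ₗ j).codRestrict _ hmem
  have hL : Function.Bijective L := by
    refine ⟨fun a c h => hj (θ.symm.injective (congrArg Subtype.val h)), fun t => ?_⟩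
    obtain ⟨q, hq⟩ := (hr (θ t.1)).mpr fun σ => by
      rw [hs]
      exact congrArg θ ((mem_inv _).mp t.2 σ⁻¹)
    exact ⟨q, Subtype.ext (by show θ.symm (j q) = t.1; rw [hq, LinearEquiv.symm_apply_apply])⟩
  let Le := LinearEquiv.ofBijective L hL
  have hfac : j = θ.toLinearMap ∘ₗ (inv A B d).subtype ∘ₗ Le.toLinearMap :=
    LinearMap.ext fun q => (θ.apply_symm_apply (j q)).symm
  obtain ⟨h1, h2⟩ := inv_bc (A := A) (B := B) (d := d) A'
  constructor
  · rw [hfac, LinearMap.lTensor_comp, LinearMap.lTensor_comp]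
    exact ((LinearEquiv.lTensor A' θ).injective.comp (h1.comp (LinearEquiv.lTensor A' Le).injective))
  · intro y hy
    obtain ⟨z, hz⟩ := h2 (θ.symm.toLinearMap.lTensor A' y) fun σ => by
      rw [← LinearMap.lTensor_comp_apply]
      conv_rhs => rw [← hy σ⁻¹, ← LinearMap.lTensor_comp_apply]
      congr 2
      refine LinearMap.ext fun x => ?_
      show R B σ (θ.symm x) = θ.symm (s σ⁻¹ x)
      rw [hs', inv_inv]
    refine ⟨Le.symm.toLinearMap.lTensor A' z, ?_⟩
    rw [hfac, LinearMap.lTensor_comp_apply, LinearMap.lTensor_comp_apply]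
    have e1 : Le.toLinearMap.lTensor A' (Le.symm.toLinearMap.lTensor A' z) = z := by
      rw [← LinearMap.lTensor_comp_apply,
        show Le.toLinearMap ∘ₗ Le.symm.toLinearMap = LinearMap.id from LinearMap.ext Le.apply_symm_apply,
        LinearMap.lTensor_id, LinearMap.id_apply]
    rw [e1, hz, ← LinearMap.lTensor_comp_apply,
      show θ.toLinearMap ∘ₗ θ.symm.toLinearMap = LinearMap.id from LinearMap.ext θ.apply_symm_apply,
      LinearMap.lTensor_id, LinearMap.id_apply]

end Groth.Agent.H26Sym.TSBC
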