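import Groth.Agent.H26Sym.BoxRing
import Groth.Agent.H26Sym.TSBaseChange
import Groth.Agent.H18Et.GammaBC
import Groth.Agent.H18Quot.Affine
import Groth.Agent.H18Quot.OnCover

/-!
Base change of symmetric products of flat (AF) morphisms.
-/

universe u

open CategoryTheory CategoryTheory.Limits AlgebraicGeometry
open scoped TensorProduct

namespace Groth.Agent.H26Sym

variable {X S S' Y : Scheme.{u}} {f : X ⟶ S} {b : S' ⟶ S} {n : ℕ}

/-- The fibre power of a base change is the base change of the fibre power. -/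
theorem isPullback_fibPow
    (c : SymProd.fibPow (pullback.snd f b) n ⟶ SymProd.fibPow f n)
    (hcπ : ∀ i : Fin n, c ≫ WidePullback.π (fun _ => f) i = WidePullback.π (fun _ => pullback.snd f b) i ≫ pullback.fst f b)
    (hcb : c ≫ WidePullback.base (fun _ => f) = WidePullback.base (fun _ => pullback.snd f b) ≫ b) :
    IsPullback c (WidePullback.base (fun _ : Fin n => pullback.snd f b))
      (WidePullback.base (fun _ : Fin n => f)) b := by
  refine ⟨⟨hcb⟩, ⟨PullbackCone.IsLimit.mk hcb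
    (fun s => WidePullback.lift s.snd (fun i => pullback.lift (s.fst ≫ WidePullback.π (fun _ : Fin n => f) i) s.snd
      (by rw [Category.assoc, WidePullback.π_arrow (fun _ : Fin n => f), s.condition])) (fun i => by rw [pullback.lift_snd]))
    (fun s => ?_) (fun s => by rw [WidePullback.lift_base]) (fun s m h1 h2 => ?_)⟩⟩
  · apply WidePullback.hom_ext
    · intro i
      rw [Category.assoc, hcπ, WidePullback.lift_π_assoc, pullback.lift_fst]
    · rw [Category.assoc, hcb, WidePullback.lift_base_assoc, s.condition]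
  · apply WidePullback.hom_ext
    · intro i
      rw [WidePullback.lift_π]
      apply pullback.hom_ext
      · rw [Category.assoc, pullback.lift_fst, ← hcπ, ← Category.assoc, h1]
      · rw [Category.assoc, pullback.lift_snd, WidePullback.π_arrow (fun _ : Fin n => pullback.snd f b), h2]
    · rw [WidePullback.lift_base, h2]

theorem isPushout_appLE {X Y S T : Scheme.{u}} {f : T ⟶ S} {g : Y ⟶ X} {iX : X ⟶ S} {iY : Y ⟶ T}
    (H : IsPullback g iY iX f) {US : S.Opens} {UT : T.Opens} {UX : X.Opens} {UY : Y.Opens}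
    (hUS : IsAffineOpen US) (hUT : IsAffineOpen UT) (hUX : IsAffineOpen UX)
    (hUST : UT ≤ f ⁻¹ᵁ US) (hUSX : UX ≤ iX ⁻¹ᵁ US) (hUY : UY = g ⁻¹ᵁ UX ⊓ iY ⁻¹ᵁ UT) :
    IsPushout (iX.appLE US UX hUSX) (f.appLE US UT hUST)
      (g.appLE UX UY (by simp [*])) (iY.appLE UT UY (by simp [*])) :=
  (isIso_pushoutSection_iff H hUST hUSX hUY).mp (isIso_pushoutSection_of_isAffineOpen H hUST hUSX hUY hUS hUT hUX)

theorem isAffineOpen_inf_preimage {X Y S T : Scheme.{u}} {f : T ⟶ S} {g : Y ⟶ X} {iX : X ⟶ S} {iY : Y ⟶ T}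
    (H : IsPullback g iY iX f) {US : S.Opens} {UT : T.Opens} {UX : X.Opens} {UY : Y.Opens}
    (hUS : IsAffineOpen US) (hUT : IsAffineOpen UT) (hUX : IsAffineOpen UX)
    (hUST : UT ≤ f ⁻¹ᵁ US) (hUSX : UX ≤ iX ⁻¹ᵁ US) (hUY : UY = g ⁻¹ᵁ UX ⊓ iY ⁻¹ᵁ UT) : IsAffineOpen UY := by
  have : IsAffine _ := hUS
  have : IsAffine _ := hUT
  have : IsAffine _ := hUX
  exact .of_isIso (Scheme.Hom.isPullback_resLE H hUST hUSX hUY).isoPullback.hom

/-- A quotient of affine schemes from a ring of invariants. -/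
theorem isQuot_SpecMap {G : Type u} [Group G] [Finite G] {R T : CommRingCat.{u}} (φ : R ⟶ T)
    (s : G → (T ⟶ T)) (ρ : G →* Aut (Spec T)) (hρ : ∀ g, (ρ g).hom = Spec.map (s g))
    (hinv : ∀ g, φ ≫ s g = φ) (hinj : Function.Injective φ.hom)
    (hr : ∀ x : T, (∀ g, (s g).hom x = x) → x ∈ Set.range φ.hom) :
    SGA1.IsQuot ρ (Spec.map φ) := by
  have hi : ∀ g, (ρ g).hom ≫ Spec.map φ = Spec.map φ := fun g => by rw [hρ, ← Spec.map_comp, hinv]
  have hφ : ∀ z, (Scheme.ΓSpecIso T).hom.hom (((Spec.map φ).app ⊤).hom z) =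
      φ.hom ((Scheme.ΓSpecIso R).hom.hom z) := fun z =>
    ConcreteCategory.congr_hom (Scheme.ΓSpecIso_naturality φ) z
  refine _root_.H18Quot.isQuot_of_isAffine ρ (Spec.map φ) hi (fun x y h => ?_) (fun z hz => ?_)
  · apply (ConcreteCategory.bijective_of_isIso (Scheme.ΓSpecIso R).hom).injective
    apply hinj
    show φ.hom ((Scheme.ΓSpecIso R).hom.hom x) = φ.hom ((Scheme.ΓSpecIso R).hom.hom y)
    rw [← hφ, ← hφ]
    exact congrArg _ h
  · obtain ⟨r, hr⟩ := hr ((Scheme.ΓSpecIso T).hom.hom z) fun g => by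
      have h1 : (Spec.map (s g)).appTop.hom z = z := by
        have := hz g
        simp only [Scheme.Hom.appLE] at this
        have e1 : (ρ g).hom.app ⊤ = (Spec.map (s g)).app ⊤ := by rw [hρ g]
        simp at this
        rw [e1] at this
        exact this
      have h2 := ConcreteCategory.congr_hom (Scheme.ΓSpecIso_naturality (s g)) z
      change (Scheme.ΓSpecIso T).hom.hom ((Spec.map (s g)).appTop.hom z) = _ at h2
      rw [h1] at h2
      exact h2.symm
    obtain ⟨z₀, rfl⟩ := (ConcreteCategory.bijective_of_isIso (Scheme.ΓSpecIso R).hom).surjective r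
    exact ⟨z₀, (ConcreteCategory.bijective_of_isIso (Scheme.ΓSpecIso T).hom).injective ((hφ z₀).trans hr)⟩

/-- Invariants after base change, from invariants of a pair of tensor products. -/
theorem invariants_of_pushouts {A Q E A' Q' E' : CommRingCat.{u}} {aQ : A ⟶ Q} {aE : A ⟶ E} {bA : A ⟶ A'}
    {cQ : Q ⟶ Q'} {dQ : A' ⟶ Q'} {cE : E ⟶ E'} {dE : A' ⟶ E'}
    (hQ : IsPushout aQ bA cQ dQ) (hE : IsPushout aE bA cE dE)
    (j : Q ⟶ E) (j' : Q' ⟶ E') (hja : aQ ≫ j = aE) (hjc : cQ ≫ j' = j ≫ cE) (hjd : dQ ≫ j' = dE)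
    {G : Type*} (σ : G → (E ⟶ E)) (σ' : G → (E' ⟶ E')) (hσa : ∀ g, aE ≫ σ g = aE)
    (hσc : ∀ g, cE ≫ σ' g = σ g ≫ cE) (hσd : ∀ g, dE ≫ σ' g = dE)
    (hgood : letI := aQ.hom.toAlgebra; letI := aE.hom.toAlgebra; letI := bA.hom.toAlgebra
      ∀ (jl : Q →ₗ[A] E) (sl : G → (E →ₗ[A] E)), (∀ x, jl x = j.hom x) → (∀ g x, sl g x = (σ g).hom x) →
        Function.Injective (jl.lTensor A') ∧
          ∀ y : (A' : Type u) ⊗[A] E, (∀ g, (sl g).lTensor A' y = y) → ∃ z, jl.lTensor A' z = y) :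
    Function.Injective j'.hom ∧ ∀ z, (∀ g, (σ' g).hom z = z) → z ∈ Set.range j'.hom := by
  letI := aQ.hom.toAlgebra
  letI := aE.hom.toAlgebra
  letI := bA.hom.toAlgebra
  letI := dQ.hom.toAlgebra
  letI := dE.hom.toAlgebra
  letI : Algebra A Q' := (dQ.hom.comp bA.hom).toAlgebra
  letI : Algebra A E' := (dE.hom.comp bA.hom).toAlgebra
  haveI : IsScalarTower A A' Q' := IsScalarTower.of_algebraMap_eq fun _ => rfl
  haveI : IsScalarTower A A' E' := IsScalarTower.of_algebraMap_eq fun _ => rfl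
  obtain ⟨δQ, hδQ, hbQ⟩ := Groth.Agent.H18Et.GammaBC.isBaseChange_of_isPushout hQ.flip
  obtain ⟨δE, hδE, hbE⟩ := Groth.Agent.H18Et.GammaBC.isBaseChange_of_isPushout hE.flip
  let eQ : (A' : Type u) ⊗[A] Q ≃ₗ[A'] Q' := hbQ.equiv
  let eE : (A' : Type u) ⊗[A] E ≃ₗ[A'] E' := hbE.equiv
  have heQ : ∀ t x, eQ (t ⊗ₜ[A] x) = dQ.hom t * cQ.hom x := fun t x => by
    rw [show eQ (t ⊗ₜ[A] x) = t • δQ x from hbQ.equiv_tmul t x, Algebra.smul_def, hδQ]
    rfl
  have heE : ∀ t x, eE (t ⊗ₜ[A] x) = dE.hom t * cE.hom x := fun t x => by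
    rw [show eE (t ⊗ₜ[A] x) = t • δE x from hbE.equiv_tmul t x, Algebra.smul_def, hδE]
    rfl
  have hja' : ∀ r, j.hom (aQ.hom r) = aE.hom r := fun r => ConcreteCategory.congr_hom hja r
  have hσa' : ∀ g r, (σ g).hom (aE.hom r) = aE.hom r := fun g r => ConcreteCategory.congr_hom (hσa g) r
  let jl : Q →ₗ[A] E :=
    { toFun := j.hom
      map_add' := map_add j.hom
      map_smul' := fun r x => by
        simp only [Algebra.smul_def, map_mul, RingHom.id_apply, RingHom.algebraMap_toAlgebra, hja'] }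
  let sl : G → (E →ₗ[A] E) := fun g =>
    { toFun := (σ g).hom
      map_add' := map_add (σ g).hom
      map_smul' := fun r x => by
        simp only [Algebra.smul_def, map_mul, RingHom.id_apply, RingHom.algebraMap_toAlgebra, hσa'] }
  obtain ⟨h1, h2⟩ := hgood jl sl (fun _ => rfl) (fun _ _ => rfl)
  have hkj : ∀ w, eE (jl.lTensor A' w) = j'.hom (eQ w) := fun w => by
    induction w using TensorProduct.induction_on with
    | zero => simp
    | tmul t x =>
      rw [LinearMap.lTensor_tmul, heE, heQ, map_mul]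
      have e1 : j'.hom (dQ.hom t) = dE.hom t := ConcreteCategory.congr_hom hjd t
      have e2 : j'.hom (cQ.hom x) = cE.hom (j.hom x) := ConcreteCategory.congr_hom hjc x
      rw [e1, e2]
      rfl
    | add u v hu hv => simp only [map_add, hu, hv]
  have hks : ∀ g w, eE ((sl g).lTensor A' w) = (σ' g).hom (eE w) := fun g w => by
    induction w using TensorProduct.induction_on with
    | zero => simp
    | tmul t x =>
      rw [LinearMap.lTensor_tmul, heE, heE, map_mul]
      have e1 : (σ' g).hom (dE.hom t) = dE.hom t := ConcreteCategory.congr_hom (hσd g) t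
      have e2 : (σ' g).hom (cE.hom x) = cE.hom ((σ g).hom x) := ConcreteCategory.congr_hom (hσc g) x
      rw [e1, e2]
      rfl
    | add u v hu hv => simp only [map_add, hu, hv]
  refine ⟨fun x y h => ?_, fun z hz => ?_⟩
  · obtain ⟨x, rfl⟩ := eQ.surjective x
    obtain ⟨y, rfl⟩ := eQ.surjective y
    rw [← hkj, ← hkj] at h
    exact congrArg eQ (h1 (eE.injective h))
  · obtain ⟨w, rfl⟩ := eE.surjective z
    obtain ⟨v, rfl⟩ := h2 w fun g => eE.injective ((hks g w).trans (hz g))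
    exact ⟨eQ v, (hkj v).symm⟩

theorem mem_inv_iff {A B : Type u} [CommRing A] [CommRing B] [Algebra A B] (d : ℕ) (t : ⨂[A] _ : Fin d, B) :
    (∀ σ, PiTensorProduct.reindex A (fun _ : Fin d => B) σ t = t) ↔ t ∈ SymTen.TS A B d :=
  (SymTen.mem_TS_iff A B d t).symm

/-- Base change of a symmetric product. -/
theorem isSymProd_baseChange [Flat f] (hAF : SymProd.IsAF f) (q : SymProd.fibPow f n ⟶ Y) (g : Y ⟶ S)
    (hq : SymProd.IsSymProd f n q g)
    (c : SymProd.fibPow (pullback.snd f b) n ⟶ SymProd.fibPow f n)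
    (hcπ : ∀ i : Fin n, c ≫ WidePullback.π (fun _ => f) i = WidePullback.π (fun _ => pullback.snd f b) i ≫ pullback.fst f b)
    (hcb : c ≫ WidePullback.base (fun _ => f) = WidePullback.base (fun _ => pullback.snd f b) ≫ b)
    (q' : SymProd.fibPow (pullback.snd f b) n ⟶ pullback g b)
    (hq'₁ : q' ≫ pullback.fst g b = c ≫ q)
    (hq'₂ : q' ≫ pullback.snd g b = WidePullback.base (fun _ => pullback.snd f b)) :
    SymProd.IsSymProd (pullback.snd f b) n q' (pullback.snd g b) := by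
  classical
  let f' := pullback.snd f b
  let bS := WidePullback.base (fun _ : Fin n => f)
  let bS' := WidePullback.base (fun _ : Fin n => f')
  have HZ := isPullback_fibPow c hcπ hcb
  have HY : IsPullback (pullback.fst g b) (pullback.snd g b) g b := IsPullback.of_hasPullback g b
  have hcσ : ∀ σ : Equiv.Perm (Fin n), SymProd.permHom f' n σ ≫ c = c ≫ SymProd.permHom f n σ := fun σ => by
    apply WidePullback.hom_ext
    · intro i
      rw [Category.assoc, hcπ, SymProd.permHom_π_assoc, Category.assoc, SymProd.permHom_π, hcπ]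
    · rw [Category.assoc, hcb, SymProd.permHom_base_assoc, Category.assoc, SymProd.permHom_base, hcb]
  have hinv : ∀ σ : ULift.{u} (Equiv.Perm (Fin n)), (SymProd.permActU f' n σ).hom ≫ q' = q' := fun σ => by
    have h0 : SymProd.permHom f n σ.down ≫ q = q := by
      have := hq.isQuot.inv σ
      rwa [SymProd.permActU_hom] at this
    rw [SymProd.permActU_hom]
    apply pullback.hom_ext
    · rw [Category.assoc, hq'₁, ← Category.assoc, hcσ, Category.assoc, h0]
    · rw [Category.assoc, hq'₂, SymProd.permHom_base]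
  -- the charts
  have chart : ∀ y : (pullback g b : Scheme.{u}), ∃ (O : (pullback g b : Scheme.{u}).Opens)
      (ρO : ULift.{u} (Equiv.Perm (Fin n)) →* Aut (Spec Γ(SymProd.fibPow f' n, q' ⁻¹ᵁ O)))
      (hO : IsAffineOpen O) (hO' : IsAffineOpen (q' ⁻¹ᵁ O)), y ∈ O ∧
      (∀ σ, (ρO σ).hom ≫ hO'.fromSpec = hO'.fromSpec ≫ (SymProd.permActU f' n σ).hom) ∧
      SGA1.IsQuot ρO (Spec.map (q'.appLE O (q' ⁻¹ᵁ O) le_rfl)) := by
    intro y
    obtain ⟨x, hx⟩ := H27Quot.surjective hq.isQuot ((pullback.fst g b).base y)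
    obtain ⟨V, hV, hxV, -⟩ := exists_isAffineOpen_mem_and_subset (X := S) (x := bS.base x) (U := ⊤) trivial
    obtain ⟨U, hU, hUV, hxW⟩ := exists_box_of_isAF f n hAF hV x hxV
    obtain ⟨W', hW', hpre⟩ := exists_descend hq (isAffineOpen_box hV hU hUV) (preimage_box V U)
    have hbV : b.base ((pullback.snd g b).base y) ∈ V := by
      rw [← Scheme.Hom.comp_apply, ← pullback.condition, Scheme.Hom.comp_apply, ← hx, ← Scheme.Hom.comp_apply, hq.over]
      exact hxV
    obtain ⟨V', hV', hyV', hV'V⟩ := exists_isAffineOpen_mem_and_subset (X := S') (U := b ⁻¹ᵁ V) hbV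
    letI : Algebra Γ(S, V) Γ(X, U) := (f.appLE V U hUV).hom.toAlgebra
    haveI : Module.Flat Γ(S, V) Γ(X, U) := f.flat_appLE hV hU hUV
    obtain ⟨θ, hθa, hθσ⟩ := exists_boxEquiv (d := n) hV hU hUV rfl
    obtain ⟨hinj, hrange⟩ := isQuot_appLE hq hpre (fun σ => (preimage_box V U σ).ge)
    have hW'V : W' ≤ g ⁻¹ᵁ V := by
      intro z hz
      obtain ⟨x', rfl⟩ := H27Quot.surjective hq.isQuot z
      have hx' : x' ∈ box f n V U := hpre ▸ hz
      show g.base (q.base x') ∈ V
      rw [← Scheme.Hom.comp_apply, hq.over]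
      exact hx'.1
    have hboxV : box f n V U ≤ bS ⁻¹ᵁ V := fun _ h => h.1
    let O : (pullback g b : Scheme.{u}).Opens := pullback.fst g b ⁻¹ᵁ W' ⊓ pullback.snd g b ⁻¹ᵁ V'
    have hpreO : q' ⁻¹ᵁ O = c ⁻¹ᵁ box f n V U ⊓ bS' ⁻¹ᵁ V' := by
      show q' ⁻¹ᵁ (pullback.fst g b ⁻¹ᵁ W') ⊓ q' ⁻¹ᵁ (pullback.snd g b ⁻¹ᵁ V') = _
      rw [← Scheme.Hom.comp_preimage, ← Scheme.Hom.comp_preimage, hq'₁, hq'₂, Scheme.Hom.comp_preimage, hpre]
    have hO : IsAffineOpen O := isAffineOpen_inf_preimage HY hV hV' hW' hV'V hW'V rfl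
    have hO' : IsAffineOpen (q' ⁻¹ᵁ O) :=
      isAffineOpen_inf_preimage HZ hV hV' (isAffineOpen_box hV hU hUV) hV'V hboxV hpreO
    have eσ : ∀ σ : ULift.{u} (Equiv.Perm (Fin n)),
        q' ⁻¹ᵁ O ≤ (SymProd.permActU f' n σ).hom ⁻¹ᵁ (q' ⁻¹ᵁ O) := fun σ => by
      rw [← Scheme.Hom.comp_preimage, hinv σ]
    let s : ULift.{u} (Equiv.Perm (Fin n)) → (Γ(SymProd.fibPow f' n, q' ⁻¹ᵁ O) ⟶ Γ(SymProd.fibPow f' n, q' ⁻¹ᵁ O)) :=
      fun σ => (SymProd.permActU f' n σ).hom.appLE (q' ⁻¹ᵁ O) (q' ⁻¹ᵁ O) (eσ σ)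
    have hs1 : s 1 = 𝟙 _ := by
      have e : (SymProd.permActU f' n 1).hom = 𝟙 _ := by rw [map_one]; rfl
      simp only [s, e]
      simp [Scheme.Hom.appLE]
      erw [Category.id_comp, Subsingleton.elim (homOfLE _).op (𝟙 _), CategoryTheory.Functor.map_id]
      rfl
    have hsmul : ∀ a a', s (a * a') = s a ≫ s a' := fun a a' => by
      have e : (SymProd.permActU f' n (a * a')).hom =
          (SymProd.permActU f' n a').hom ≫ (SymProd.permActU f' n a).hom := by rw [map_mul]; rfl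
      simp only [s, Scheme.Hom.appLE_comp_appLE, e]
    let ρO : ULift.{u} (Equiv.Perm (Fin n)) →* Aut (Spec Γ(SymProd.fibPow f' n, q' ⁻¹ᵁ O)) :=
      { toFun := fun σ =>
          { hom := Spec.map (s σ)
            inv := Spec.map (s σ⁻¹)
            hom_inv_id := by rw [← Spec.map_comp, ← hsmul, inv_mul_cancel, hs1, Spec.map_id]
            inv_hom_id := by rw [← Spec.map_comp, ← hsmul, mul_inv_cancel, hs1, Spec.map_id] }
        map_one' := Iso.ext (by show Spec.map (s 1) = 𝟙 _; rw [hs1, Spec.map_id])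
        map_mul' := fun a a' => Iso.ext (by
          show Spec.map (s (a * a')) = Spec.map (s a') ≫ Spec.map (s a)
          rw [hsmul, Spec.map_comp]) }
    refine ⟨O, ρO, hO, hO', ⟨?_, hyV'⟩,
      fun σ => IsAffineOpen.SpecMap_appLE_fromSpec _ hO' hO' (eσ σ), ?_⟩
    · show (pullback.fst g b).base y ∈ W'
      rw [← hx]
      exact (hpre.symm ▸ hxW : x ∈ q ⁻¹ᵁ W')
    have hcle : q' ⁻¹ᵁ O ≤ c ⁻¹ᵁ box f n V U := hpreO.le.trans inf_le_left
    have hdle : q' ⁻¹ᵁ O ≤ bS' ⁻¹ᵁ V' := hpreO.le.trans inf_le_right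
    have key := invariants_of_pushouts
      (isPushout_appLE HY hV hV' hW' hV'V hW'V (UY := O) rfl)
      (isPushout_appLE HZ hV hV' (isAffineOpen_box hV hU hUV) hV'V hboxV (UY := q' ⁻¹ᵁ O) hpreO)
      (q.appLE W' (box f n V U) hpre.ge) (q'.appLE O (q' ⁻¹ᵁ O) le_rfl)
      (by rw [Scheme.Hom.appLE_comp_appLE]; simp only [hq.over])
      (by rw [Scheme.Hom.appLE_comp_appLE, Scheme.Hom.appLE_comp_appLE]; simp only [hq'₁])
      (by rw [Scheme.Hom.appLE_comp_appLE]; simp only [hq'₂])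
      (fun σ : ULift.{u} (Equiv.Perm (Fin n)) =>
        (SymProd.permHom f n σ.down).appLE (box f n V U) (box f n V U) (preimage_box V U σ.down).ge)
      s
      (fun σ => by rw [Scheme.Hom.appLE_comp_appLE]; simp only [SymProd.permHom_base])
      (fun σ => by
        simp only [s, SymProd.permActU_hom, Scheme.Hom.appLE_comp_appLE, hcσ])
      (fun σ => by
        simp only [s, SymProd.permActU_hom, Scheme.Hom.appLE_comp_appLE, SymProd.permHom_base, f'])
      (by
        letI := (g.appLE V W' hW'V).hom.toAlgebra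
        letI := (bS.appLE V (box f n V U) hboxV).hom.toAlgebra
        letI := (b.appLE V V' hV'V).hom.toAlgebra
        intro jl sl hjl hsl
        let θl : (⨂[Γ(S, V)] _ : Fin n, Γ(X, U)) ≃ₗ[Γ(S, V)] Γ(SymProd.fibPow f n, box f n V U) :=
          { θ with
            map_smul' := fun r x => by
              show θ (r • x) = r • θ x
              rw [Algebra.smul_def, map_mul, hθa, Algebra.smul_def]
              rfl }
        obtain ⟨h1, h2⟩ := TSBC.bc_of_iso (A' := Γ(S', V')) (B := Γ(X, U)) (d := n) jl θl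
          (fun σ => sl (ULift.up σ))
          (fun σ t => by
            rw [hsl]
            show _ = θ (PiTensorProduct.reindex _ _ σ⁻¹ t)
            rw [← SymTen.perm_apply]
            exact hθσ σ t)
          (fun a a' h => hinj (by rw [← hjl, ← hjl, h]))
          (fun x => by
            constructor
            · rintro ⟨a, rfl⟩ σ
              rw [hsl]
              exact (hrange _).mp ⟨a, (hjl a).symm⟩ σ
            · intro h
              obtain ⟨a, ha⟩ := (hrange x).mpr fun σ => by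
                have := h σ
                rw [hsl] at this
                exact this
              exact ⟨a, (hjl a).trans ha⟩)
        exact ⟨h1, fun z hz => h2 z fun σ => hz (ULift.up σ)⟩)
    exact isQuot_SpecMap _ s ρO (fun σ => rfl) (fun σ => by
      simp only [s, Scheme.Hom.appLE_comp_appLE, hinv σ]) key.1 key.2
  choose O ρO hO hO' hmem hρ hQ using chart
  haveI : IsAffineHom q' := isAffineHom_of_forall_exists_isAffineOpen q' fun y => ⟨O y, hmem y, hO y, hO' y⟩
  refine ⟨_root_.H18Quot.isQuot_of_cover (SymProd.permActU f' n) q' hinv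
    (fun y => Spec Γ(SymProd.fibPow f' n, q' ⁻¹ᵁ O y)) (fun y => Spec Γ((pullback g b : Scheme.{u}), O y))
    (fun y => (hO' y).fromSpec) (fun y => (hO y).fromSpec) (fun y => Spec.map (q'.appLE (O y) (q' ⁻¹ᵁ O y) le_rfl))
    (fun y => (IsAffineOpen.SpecMap_appLE_fromSpec q' (hO y) (hO' y) le_rfl).symm)
    (fun y => by rw [IsAffineOpen.opensRange_fromSpec, IsAffineOpen.opensRange_fromSpec])
    ρO hρ hQ (fun y => ⟨y, by rw [(hO y).range_fromSpec]; exact hmem y⟩), hq'₂⟩

end Groth.Agent.H26Sym
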