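import Groth.Prelude.Def_SymProd
import Groth.Agent.H13Grpd.InvariantAffine
import Groth.Agent.H18Quot.Categorical

/-!
Affine charts `Sym^d(U/V)` of a symmetric product of an (AF) morphism.
-/

universe u

open CategoryTheory CategoryTheory.Limits AlgebraicGeometry

namespace Groth.Agent.H26Sym

variable {X S : Scheme.{u}} (f : X ⟶ S) (d : ℕ)

/-- the part of the fibre power lying over `V` with all components in `U` -/
noncomputable def box (V : S.Opens) (U : X.Opens) : (SymProd.fibPow f d).Opens :=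
  (WidePullback.base (fun _ : Fin d => f)) ⁻¹ᵁ V ⊓
    ⟨⋂ i, (WidePullback.π (fun _ : Fin d => f) i).base ⁻¹' (U : Set X),
      isOpen_iInter_of_finite fun i => U.2.preimage (WidePullback.π (fun _ : Fin d => f) i).continuous⟩

variable {f d}

theorem mem_box {V : S.Opens} {U : X.Opens} {x : ↥(SymProd.fibPow f d)} :
    x ∈ box f d V U ↔ (WidePullback.base (fun _ : Fin d => f)).base x ∈ V ∧
      ∀ i, (WidePullback.π (fun _ : Fin d => f) i).base x ∈ U :=
  ⟨fun h => ⟨h.1, Set.mem_iInter.1 h.2⟩, fun h => ⟨h.1, Set.mem_iInter.2 h.2⟩⟩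

theorem preimage_box (V : S.Opens) (U : X.Opens) (σ : Equiv.Perm (Fin d)) :
    (SymProd.permHom f d σ) ⁻¹ᵁ box f d V U = box f d V U := by
  ext x
  show (SymProd.permHom f d σ).base x ∈ box f d V U ↔ x ∈ box f d V U
  rw [mem_box, mem_box]
  have h1 : ∀ i, (WidePullback.π (fun _ : Fin d => f) i).base ((SymProd.permHom f d σ).base x) =
      (WidePullback.π (fun _ : Fin d => f) (σ.symm i)).base x := fun i => by
    rw [← Scheme.Hom.comp_apply, SymProd.permHom_π]
  have h2 : (WidePullback.base (fun _ : Fin d => f)).base ((SymProd.permHom f d σ).base x) =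
      (WidePullback.base (fun _ : Fin d => f)).base x := by
    rw [← Scheme.Hom.comp_apply, SymProd.permHom_base]
  rw [h2]
  refine and_congr_right fun _ => ⟨fun h i => ?_, fun h i => ?_⟩
  · have := h (σ i)
    rwa [h1, Equiv.symm_apply_apply] at this
  · rw [h1]; exact h _

theorem isAffineOpen_box {V : S.Opens} (hV : IsAffineOpen V) {U : X.Opens} (hU : IsAffineOpen U)
    (hUV : U ≤ f ⁻¹ᵁ V) : IsAffineOpen (box f d V U) := by
  haveI : IsAffine (U : Scheme.{u}) := hU
  haveI : IsAffine (V : Scheme.{u}) := hV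
  let W := box f d V U
  let φ : (U : Scheme.{u}) ⟶ V := f.resLE V U hUV
  let D := WidePullbackShape.wideCospan (V : Scheme.{u}) (fun _ : Fin d => (U : Scheme.{u})) (fun _ => φ)
  haveI : ∀ i, IsAffine (D.obj i) := by
    rintro (_ | i)
    · exact inferInstanceAs (IsAffine (V : Scheme.{u}))
    · exact inferInstanceAs (IsAffine (U : Scheme.{u}))
  haveI : IsAffine (widePullback (V : Scheme.{u}) (fun _ : Fin d => (U : Scheme.{u})) (fun _ => φ)) :=
    Scheme.isAffine_of_isLimit (limit.cone D) (limit.isLimit D)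
  have hWV : Set.range (W.ι ≫ WidePullback.base (fun _ : Fin d => f)).base ⊆ Set.range V.ι.base := by
    rintro _ ⟨w, rfl⟩
    rw [Scheme.Opens.range_ι]
    exact w.2.1
  have hWU : ∀ i, Set.range (W.ι ≫ WidePullback.π (fun _ : Fin d => f) i).base ⊆ Set.range U.ι.base := fun i => by
    rintro _ ⟨w, rfl⟩
    rw [Scheme.Opens.range_ι]
    exact Set.mem_iInter.1 w.2.2 i
  let a : (W : Scheme.{u}) ⟶ widePullback (V : Scheme.{u}) (fun _ : Fin d => (U : Scheme.{u})) (fun _ => φ) :=
    WidePullback.lift (IsOpenImmersion.lift V.ι _ hWV) (fun i => IsOpenImmersion.lift U.ι _ (hWU i)) (fun i => by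
      rw [← cancel_mono V.ι, Category.assoc, Scheme.Hom.resLE_comp_ι, IsOpenImmersion.lift_fac_assoc,
        IsOpenImmersion.lift_fac, Category.assoc, WidePullback.π_arrow])
  let b' : widePullback (V : Scheme.{u}) (fun _ : Fin d => (U : Scheme.{u})) (fun _ => φ) ⟶ SymProd.fibPow f d :=
    WidePullback.lift (WidePullback.base (fun _ : Fin d => φ) ≫ V.ι)
      (fun i => WidePullback.π (fun _ : Fin d => φ) i ≫ U.ι) (fun i => by
        rw [Category.assoc, ← Scheme.Hom.resLE_comp_ι f hUV, ← Category.assoc, WidePullback.π_arrow (fun _ : Fin d => φ)])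
  have hb : Set.range b'.base ⊆ Set.range W.ι.base := by
    rintro _ ⟨p, rfl⟩
    rw [Scheme.Opens.range_ι]
    refine mem_box.mpr ⟨?_, fun i => ?_⟩
    · rw [← Scheme.Hom.comp_apply, WidePullback.lift_base, Scheme.Hom.comp_apply]
      exact ((WidePullback.base (fun _ : Fin d => φ)).base p).2
    · rw [← Scheme.Hom.comp_apply, WidePullback.lift_π, Scheme.Hom.comp_apply]
      exact ((WidePullback.π (fun _ : Fin d => φ) i).base p).2
  let b := IsOpenImmersion.lift W.ι b' hb
  have hba : b ≫ a = 𝟙 _ := by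
    apply WidePullback.hom_ext
    · intro i
      rw [Category.assoc, WidePullback.lift_π, ← cancel_mono U.ι, Category.assoc, IsOpenImmersion.lift_fac,
        IsOpenImmersion.lift_fac_assoc, WidePullback.lift_π, Category.id_comp]
    · rw [Category.assoc, WidePullback.lift_base, ← cancel_mono V.ι, Category.assoc, IsOpenImmersion.lift_fac,
        IsOpenImmersion.lift_fac_assoc, WidePullback.lift_base, Category.id_comp]
  have hab : a ≫ b = 𝟙 _ := by
    rw [← cancel_mono W.ι, Category.assoc, IsOpenImmersion.lift_fac, Category.id_comp]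
    apply WidePullback.hom_ext
    · intro i
      rw [Category.assoc, WidePullback.lift_π, WidePullback.lift_π_assoc, IsOpenImmersion.lift_fac]
    · rw [Category.assoc, WidePullback.lift_base, WidePullback.lift_base_assoc, IsOpenImmersion.lift_fac]
  haveI : IsIso a := ⟨b, hab, hba⟩
  exact IsAffine.of_isIso a

variable (f d) in
/-- For an (AF) morphism every point lies in an affine box over a given member of an affine cover. -/
theorem exists_box_of_isAF (hAF : SymProd.IsAF f) {V : S.Opens} (hV : IsAffineOpen V)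
    (x : ↥(SymProd.fibPow f d)) (hx : (WidePullback.base (fun _ : Fin d => f)).base x ∈ V) :
    ∃ U : X.Opens, IsAffineOpen U ∧ U ≤ f ⁻¹ᵁ V ∧ x ∈ box f d V U := by
  classical
  let s : S := (WidePullback.base (fun _ : Fin d => f)).base x
  let T : Finset X := Finset.univ.image fun i : Fin d => (WidePullback.π (fun _ : Fin d => f) i).base x
  have hTs : ∀ z ∈ T, f.base z = s := fun z hz => by
    obtain ⟨i, -, rfl⟩ := Finset.mem_image.1 hz
    rw [← Scheme.Hom.comp_apply, WidePullback.π_arrow]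
  obtain ⟨U, hU, hTU⟩ := hAF s T hTs
  obtain ⟨h, hTh, hhO⟩ := Groth.Agent.H13Grpd.exists_basicOpen_finite hU (E := (T : Set X)) T.finite_toSet
    (O := U ⊓ f ⁻¹ᵁ V) (fun z hz => ⟨hTU z hz, by show f.base z ∈ V; rw [hTs z hz]; exact hx⟩) inf_le_left
  refine ⟨X.basicOpen h, hU.basicOpen h, hhO.trans inf_le_right, mem_box.mpr ⟨hx, fun i => ?_⟩⟩
  exact hTh (Finset.mem_image.2 ⟨i, Finset.mem_univ _, rfl⟩)

/-- An invariant affine open of the source descends to an affine open of the quotient. -/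
theorem exists_descend {Y : Scheme.{u}} {q : SymProd.fibPow f d ⟶ Y} {g : Y ⟶ S}
    (hq : SymProd.IsSymProd f d q g) {W : (SymProd.fibPow f d).Opens} (hW : IsAffineOpen W)
    (hst : ∀ σ : Equiv.Perm (Fin d), (SymProd.permHom f d σ) ⁻¹ᵁ W = W) :
    ∃ W' : Y.Opens, IsAffineOpen W' ∧ q ⁻¹ᵁ W' = W := by
  haveI := _root_.H18Quot.isIntegralHom hq.isQuot
  let W' : Y.Opens := ⟨(q.base '' (W : Set ↥(SymProd.fibPow f d))ᶜ)ᶜ,
    (q.isClosedMap _ W.isOpen.isClosed_compl).isOpen_compl⟩
  have hpre : q ⁻¹ᵁ W' = W := by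
    ext x
    show q.base x ∈ (q.base '' (W : Set ↥(SymProd.fibPow f d))ᶜ)ᶜ ↔ x ∈ W
    constructor
    · intro h
      by_contra hx
      exact h ⟨x, hx, rfl⟩
    · rintro hx ⟨z, hz, e⟩
      obtain ⟨σ, hσ⟩ := _root_.H18Quot.exists_smul_eq hq.isQuot e
      refine hz ?_
      rw [SymProd.permActU_hom] at hσ
      have : (SymProd.permHom f d σ.down).base z ∈ W := hσ.symm ▸ hx
      rw [← hst σ.down]
      exact this
  exact ⟨W', H27Quot.isAffineOpen_of_preimage hq.isQuot (hpre.symm ▸ hW), hpre⟩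

end Groth.Agent.H26Sym
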